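import Cfsg.Agent.H871.Th7.Abs
import Cfsg.Agent.H468.PW.Th
import Cfsg.Agent.H904.SV.ThClasses

/-!
# The elements of order 7, 14, 28 of the Thompson group (helper871)

The fields `c7`, `c14`, `c28`, `n7`, `n14`, `n28` of `H853.ThC.ThFacts` for `G = Spor.Th`; conjugacy to the words
`X7`, `wd 12`, `wd 17`; no elements of order 49, 56, 98.
-/

set_option autoImplicit false

namespace Cfsg.Agent.H871.Th7

open Cfsg Subgroup Cfsg.Agent.H49.ThSeven
open Cfsg.Agent.Th.IndexUpper (gTh)
open Cfsg.Agent.Th.Word Cfsg.Agent.CpAutTh.Data Cfsg.Agent.CpAutTh.Local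

instance fin : Finite Spor.Th := Cfsg.Agent.H513.NilpTh.finite

theorem exists_epi' : ∃ f, Epi gTh f := exists_epi Cfsg.Agent.KFacts.Th.Main.ctx

theorem order_R (i : Fin 21) : orderOf (ev gTh (H904.SV.Th.wd i)) = 2 * H904.SV.Th.hf i := by
  obtain ⟨f, F⟩ := exists_epi'
  exact H904.SV.Th.ord Cfsg.Agent.KFacts.Th.Main.ctx F i

/-- all the elements of order 7 are conjugate to `X7` -/
theorem conj7 (g : Spor.Th) (hg : orderOf g = 7) : IsConj g (ev gTh X7) := conj_seven dat hg

/-- all the elements of order 14 are conjugate to `wd 12` -/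
theorem conj14 (g : Spor.Th) (hg : orderOf g = 14) : IsConj g (ev gTh (H904.SV.Th.wd 12)) :=
  (conj_fourteen dat hg).trans (conj_fourteen dat (order_R 12)).symm

/-- all the elements of order 28 are conjugate to `wd 17` -/
theorem conj28 (g : Spor.Th) (hg : orderOf g = 28) : IsConj g (ev gTh (H904.SV.Th.wd 17)) :=
  (conj_twenty_eight dat hg).trans (conj_twenty_eight dat (order_R 17)).symm

theorem card7 (g : Spor.Th) (hg : orderOf g = 7) : Nat.card (Subgroup.centralizer {g}) = 1176 :=
  H468.PW.ThP.card_cent hg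

theorem card14 (g : Spor.Th) (hg : orderOf g = 14) : Nat.card (Subgroup.centralizer {g}) = 56 :=
  card_cent_14 dat hg

theorem card28 (g : Spor.Th) (hg : orderOf g = 28) : Nat.card (Subgroup.centralizer {g}) = 28 :=
  card_cent_28 dat hg

theorem no49 (g : Spor.Th) : orderOf g ≠ 49 := fun h => no_49 dat h

theorem no56 (g : Spor.Th) : orderOf g ≠ 56 := fun h => no_56 dat h

theorem no98 (g : Spor.Th) : orderOf g ≠ 98 := fun h =>
  no49 (g ^ 2) (by rw [orderOf_pow, h]; norm_num)

/-! ### The fields -/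

theorem c7 : ∀ g : Spor.Th, orderOf g = 7 → ¬ 3 ^ 2 ∣ Nat.card (Subgroup.centralizer {g}) := fun g hg => by
  rw [card7 g hg]; norm_num

theorem c14 : ∀ g : Spor.Th, orderOf g = 14 → ¬ 3 ∣ Nat.card (Subgroup.centralizer {g}) := fun g hg => by
  rw [card14 g hg]; norm_num

theorem c28 : ∀ g : Spor.Th, orderOf g = 28 → ¬ 3 ∣ Nat.card (Subgroup.centralizer {g}) := fun g hg => by
  rw [card28 g hg]; norm_num

theorem n7 : 1176 * Nat.card {g : Spor.Th // orderOf g = 7} ≤ Nat.card Spor.Th := by
  have h := card_conj (ev gTh X7) (fun g : Spor.Th => orderOf g = 7) conj7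
  rwa [card7 _ dat.hx] at h

theorem n14 : 56 * Nat.card {g : Spor.Th // orderOf g = 14} ≤ Nat.card Spor.Th := by
  have h := card_conj _ (fun g : Spor.Th => orderOf g = 14) conj14
  rwa [card14 _ (order_R 12)] at h

theorem n28 : 28 * Nat.card {g : Spor.Th // orderOf g = 28} ≤ Nat.card Spor.Th := by
  have h := card_conj _ (fun g : Spor.Th => orderOf g = 28) conj28
  rwa [card28 _ (order_R 17)] at h

end Cfsg.Agent.H871.Th7
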