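import Cfsg.Agent.H49.ThSeven
import Mathlib.GroupTheory.GroupAction.ConjAct

/-!
# The elements of order 7, 14, 28 of the Thompson group: the abstract part (helper871)

From the data `Dat x a b c` of `H49.ThSeven`.
-/

set_option autoImplicit false
set_option linter.unusedSectionVars false

namespace Cfsg.Agent.H871.Th7

open Cfsg Subgroup Cfsg.Agent.H49.ThSeven

/-- the number of elements of one class -/
theorem card_conj {K : Type*} [Group K] [Finite K] (w : K) (P : K → Prop) (hP : ∀ g, P g → IsConj g w) :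
    Nat.card ↥(centralizer ({w} : Set K)) * Nat.card {g : K // P g} ≤ Nat.card K := by
  classical
  have h1 : Nat.card {g : K // P g} ≤ Nat.card ↥(MulAction.orbit (ConjAct K) w) := by
    have hm : ∀ g : K, P g → g ∈ MulAction.orbit (ConjAct K) w := fun g hg => by
      rw [ConjAct.mem_orbit_conjAct]
      exact hP g hg
    exact Nat.card_le_card_of_injective (fun g : {g : K // P g} => (⟨g.1, hm g.1 g.2⟩ : MulAction.orbit (ConjAct K) w))
      (fun u v huv => Subtype.ext (congrArg (fun z : ↥(MulAction.orbit (ConjAct K) w) => (z : K)) huv))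
  have h2 : Nat.card (MulAction.orbit (ConjAct K) w) * Nat.card (MulAction.stabilizer (ConjAct K) w) = Nat.card K := by
    have h3 := Nat.card_congr (MulAction.orbitProdStabilizerEquivGroup (ConjAct K) w)
    rw [Nat.card_prod] at h3
    exact h3
  have h4 : Nat.card (MulAction.stabilizer (ConjAct K) w) = Nat.card ↥(centralizer ({w} : Set K)) := by
    rw [ConjAct.stabilizer_eq_centralizer]
    rfl
  rw [h4] at h2
  calc _ ≤ Nat.card ↥(centralizer ({w} : Set K)) * Nat.card ↥(MulAction.orbit (ConjAct K) w) :=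
        Nat.mul_le_mul_left _ h1
    _ = Nat.card K := by rw [mul_comm, h2]

theorem card_cent_conj {K : Type*} [Group K] {g w : K} (h : IsConj g w) :
    Nat.card ↥(centralizer ({g} : Set K)) = Nat.card ↥(centralizer ({w} : Set K)) := by
  obtain ⟨k, hk⟩ := isConj_iff.1 h
  have h1 : (centralizer ({g} : Set K)).map (MulAut.conj k).toMonoidHom = centralizer ({w} : Set K) := by
    ext y
    constructor
    · rintro ⟨z, hz, rfl⟩
      have hz' : z * g = g * z := mem_centralizer_singleton_iff.1 hz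
      rw [mem_centralizer_singleton_iff, ← hk]
      change k * z * k⁻¹ * (k * g * k⁻¹) = k * g * k⁻¹ * (k * z * k⁻¹)
      calc k * z * k⁻¹ * (k * g * k⁻¹) = k * (z * g) * k⁻¹ := by group
        _ = k * (g * z) * k⁻¹ := by rw [hz']
        _ = _ := by group
    · intro hy
      have hy' := mem_centralizer_singleton_iff.1 hy
      refine ⟨k⁻¹ * y * k, ?_, ?_⟩
      · change k⁻¹ * y * k ∈ centralizer ({g} : Set K)
        rw [mem_centralizer_singleton_iff]
        have hg : g = k⁻¹ * w * k := by rw [← hk]; group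
        rw [hg]
        calc k⁻¹ * y * k * (k⁻¹ * w * k) = k⁻¹ * (y * w) * k := by group
          _ = k⁻¹ * (w * y) * k := by rw [hy']
          _ = _ := by group
      · change k * (k⁻¹ * y * k) * k⁻¹ = y
        group
  rw [← h1, Subgroup.card_map_of_injective (MulAut.conj k).injective]

section

variable {K : Type*} [Group K] [Finite K] {x a b c : K}

/-- the centralizer of `x` in `C(a)` -/
def Y (x a : K) : Subgroup K := centralizer ({x} : Set K) ⊓ centralizer ({a} : Set K)

theorem mem_Y {y : K} : y ∈ Y x a ↔ y * x = x * y ∧ y * a = a * y := by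
  unfold Y
  rw [Subgroup.mem_inf, mem_centralizer_singleton_iff, mem_centralizer_singleton_iff]

theorem aa (D : Dat x a b c) : a * a = 1 := mul_self D.ha
theorem bb (D : Dat x a b c) : b * b = 1 := mul_self D.hb
theorem cc (D : Dat x a b c) : c * c = 1 := mul_self D.hc
theorem a1 (D : Dat x a b c) : a ≠ 1 := ne_one D.ha

theorem bcbc (D : Dat x a b c) : b * c * (b * c) = a := by
  have h1 : c * b = a * (b * c) := by
    rw [D.bc, ← mul_assoc, aa D, one_mul]
  calc b * c * (b * c) = b * (c * b) * c := by group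
    _ = b * (a * (b * c)) * c := by rw [h1]
    _ = (b * a) * b * (c * c) := by group
    _ = (a * b) * b * (c * c) := by rw [D.ab]
    _ = a * (b * b) * (c * c) := by group
    _ = a := by rw [bb D, cc D, mul_one, mul_one]

theorem bc_mem (D : Dat x a b c) : b * c ∈ Y x a := by
  rw [mem_Y]
  constructor
  · rw [mul_assoc, D.cx, ← mul_assoc, D.bx, mul_assoc]
  · rw [mul_assoc, ← D.ac, ← mul_assoc, ← D.ab, mul_assoc]

theorem order_bc (D : Dat x a b c) : orderOf (b * c) = 4 := by
  have : Fact (Nat.Prime 2) := ⟨Nat.prime_two⟩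
  refine orderOf_eq_prime_pow (p := 2) (n := 1) ?_ ?_
  · rw [pow_one, pow_two, bcbc D]
    exact a1 D
  · rw [show 2 ^ (1 + 1) = 2 * 2 by norm_num, pow_mul, pow_two (b * c), bcbc D, pow_two, aa D]

theorem x_mem (D : Dat x a b c) : x ∈ Y x a := mem_Y.2 ⟨rfl, D.ax.symm⟩

theorem a_mem (D : Dat x a b c) : a ∈ Y x a := mem_Y.2 ⟨D.ax, rfl⟩

theorem b_mem (D : Dat x a b c) : b ∈ Y x a := mem_Y.2 ⟨D.bx, D.ab.symm⟩

theorem c_mem (D : Dat x a b c) : c ∈ Y x a := mem_Y.2 ⟨D.cx, D.ac.symm⟩

theorem not_comm (D : Dat x a b c) : b * c ≠ c * b := by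
  intro h
  have h1 := D.bc
  rw [h] at h1
  have h2 : a * (c * b) = 1 * (c * b) := by rw [one_mul]; exact h1.symm
  exact a1 D (mul_right_cancel h2)

/-- the centralizer of `b c` in `Y` has order 28 and `Y` has order 56 -/
theorem card_28_56 (D : Dat x a b c) :
    Nat.card ↥(Y x a ⊓ centralizer ({b * c} : Set K)) = 28 ∧ Nat.card ↥(Y x a) = 56 := by
  have h56 : Nat.card ↥(Y x a) ∣ 56 := D.card _ (fun y hy => ⟨(mem_Y.1 hy).2, (mem_Y.1 hy).1⟩)
  have hle : Y x a ⊓ centralizer ({b * c} : Set K) ≤ Y x a := inf_le_left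
  have h1 : orderOf x ∣ Nat.card ↥(Y x a ⊓ centralizer ({b * c} : Set K)) :=
    Subgroup.orderOf_dvd_natCard _ ⟨x_mem D, mem_centralizer_singleton_iff.2 (mem_Y.1 (bc_mem D)).1.symm⟩
  have h2 : orderOf (b * c) ∣ Nat.card ↥(Y x a ⊓ centralizer ({b * c} : Set K)) :=
    Subgroup.orderOf_dvd_natCard _ ⟨bc_mem D, mem_centralizer_singleton_iff.2 rfl⟩
  rw [D.hx] at h1
  rw [order_bc D] at h2
  have h28 : 28 ∣ Nat.card ↥(Y x a ⊓ centralizer ({b * c} : Set K)) :=
    Nat.Coprime.mul_dvd_of_dvd_of_dvd (m := 4) (n := 7) (by norm_num) h2 h1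
  have hd := card_dvd_of_le hle
  have hne : Nat.card ↥(Y x a ⊓ centralizer ({b * c} : Set K)) ≠ Nat.card ↥(Y x a) := by
    intro he
    have h3 : Y x a ⊓ centralizer ({b * c} : Set K) = Y x a := Subgroup.eq_of_le_of_card_ge hle he.ge
    have h4 : b ∈ Y x a ⊓ centralizer ({b * c} : Set K) := by rw [h3]; exact b_mem D
    have h5 : b * (b * c) = b * c * b := mem_centralizer_singleton_iff.1 h4.2
    rw [mul_assoc b c b] at h5
    exact not_comm D (mul_left_cancel h5)
  obtain ⟨k, hk⟩ := h28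
  obtain ⟨l, hl⟩ := hd
  obtain ⟨m, hm⟩ := h56
  rw [hk] at hl hne ⊢
  rw [hl] at hm hne ⊢
  have hk0 : 0 < k := by
    rcases Nat.eq_zero_or_pos k with rfl | h
    · norm_num at hm
    · exact h
  have hl0 : 0 < l := by
    rcases Nat.eq_zero_or_pos l with rfl | h
    · norm_num at hm
    · exact h
  have hm0 : 0 < m := by
    rcases Nat.eq_zero_or_pos m with rfl | h
    · norm_num at hm
    · exact h
  have h6 : k * l * m = 2 := by
    have : 28 * (k * l * m) = 28 * 2 := by linarith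
    exact Nat.eq_of_mul_eq_mul_left (by norm_num) this
  have h7 : l ≠ 1 := fun h => hne (by rw [h, mul_one])
  have h8 : l ∣ 2 := ⟨k * m, by rw [← h6]; ring⟩
  have h9 : l = 2 := by
    rcases (Nat.dvd_prime Nat.prime_two).1 h8 with h | h
    · exact absurd h h7
    · exact h
  subst h9
  have h10 : k * m = 1 := by
    have : 2 * (k * m) = 2 * 1 := by linarith
    exact Nat.eq_of_mul_eq_mul_left (by norm_num) this
  have h11 : k = 1 := Nat.eq_one_of_mul_eq_one_right h10
  subst h11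
  norm_num

/-- the list of the eight elements of the group generated by `a`, `b`, `c` -/
def L (a b c u : K) : Prop := ∃ z : K, (z = 1 ∨ z = a) ∧ (u = z ∨ u = z * b ∨ u = z * c ∨ u = z * (b * c))

def P (a b c : K) : Subgroup K := closure ({a, b, c} : Set K)

theorem cb (D : Dat x a b c) : c * b = a * (b * c) := by
  rw [D.bc, ← mul_assoc, aa D, one_mul]

theorem mem_L (D : Dat x a b c) {u : K} (hu : u ∈ P a b c) : L a b c u := by
  have ha := aa D
  have hb := bb D
  have hc := cc D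
  have hcb := cb D
  have hz : ∀ z : K, (z = 1 ∨ z = a) → b * z = z * b ∧ c * z = z * c ∧ (a * z = 1 ∨ a * z = a) := by
    rintro z (rfl | rfl)
    · simp
    · exact ⟨D.ab.symm, D.ac.symm, Or.inl ha⟩
  have h1 : ∀ s ∈ ({a, b, c} : Set K), ∀ y, L a b c y → L a b c (s * y) := by
    rintro s (rfl | rfl | rfl) y ⟨z, h, hy⟩
    · refine ⟨s * z, (hz z h).2.2, ?_⟩
      rcases hy with rfl | rfl | rfl | rfl
      · left; rfl
      · right; left; rw [mul_assoc]
      · right; right; left; rw [mul_assoc]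
      · right; right; right; rw [mul_assoc]
    · obtain ⟨h1, h2, h3⟩ := hz z h
      rcases hy with rfl | rfl | rfl | rfl
      · exact ⟨y, h, Or.inr (Or.inl h1)⟩
      · refine ⟨z, h, Or.inl ?_⟩
        rw [← mul_assoc, h1, mul_assoc, hb, mul_one]
      · refine ⟨z, h, Or.inr (Or.inr (Or.inr ?_))⟩
        rw [← mul_assoc, h1, mul_assoc]
      · refine ⟨z, h, Or.inr (Or.inr (Or.inl ?_))⟩
        rw [← mul_assoc, h1, mul_assoc, ← mul_assoc s s, hb, one_mul]
    · obtain ⟨h1, h2, h3⟩ := hz z h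
      rcases hy with rfl | rfl | rfl | rfl
      · exact ⟨y, h, Or.inr (Or.inr (Or.inl h2))⟩
      · refine ⟨a * z, h3, Or.inr (Or.inr (Or.inr ?_))⟩
        rw [← mul_assoc, h2, mul_assoc, hcb]
        rcases h with rfl | rfl
        · simp
        · exact (mul_assoc _ _ _).symm
      · refine ⟨z, h, Or.inl ?_⟩
        rw [← mul_assoc, h2, mul_assoc, hc, mul_one]
      · refine ⟨a * z, h3, Or.inr (Or.inl ?_)⟩
        rw [← mul_assoc, h2, mul_assoc, ← mul_assoc s b, hcb, mul_assoc, mul_assoc, hc, mul_one]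
        rcases h with rfl | rfl
        · simp
        · rw [← mul_assoc]
  have hinv : ∀ s ∈ ({a, b, c} : Set K), s⁻¹ = s := by
    rintro s (rfl | rfl | rfl)
    · exact inv_eq_of_mul_eq_one_left ha
    · exact inv_eq_of_mul_eq_one_left hb
    · exact inv_eq_of_mul_eq_one_left hc
  unfold P at hu
  induction hu using Subgroup.closure_induction_left with
  | one => exact ⟨1, Or.inl rfl, Or.inl rfl⟩
  | mul_left s hs y _ hy => exact h1 s hs y hy
  | inv_mul_cancel s hs y _ hy => rw [hinv s hs]; exact h1 s hs y hy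

/-- the squares of the elements of `P` -/
theorem sq_cases (D : Dat x a b c) {u : K} (hu : L a b c u) : u * u = 1 ∨ (u * u = a ∧ (u = b * c ∨ u = c * b)) := by
  have ha := aa D
  have hb := bb D
  have hc := cc D
  obtain ⟨z, h, hy⟩ := hu
  have hz : b * z = z * b ∧ c * z = z * c ∧ z * z = 1 := by
    rcases h with rfl | rfl
    · simp
    · exact ⟨D.ab.symm, D.ac.symm, ha⟩
  obtain ⟨h1, h2, h3⟩ := hz
  rcases hy with rfl | rfl | rfl | rfl
  · left; exact h3
  · left
    calc z * b * (z * b) = z * (b * z) * b := by group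
      _ = z * z * (b * b) := by rw [h1]; group
      _ = 1 := by rw [h3, hb, mul_one]
  · left
    calc z * c * (z * c) = z * (c * z) * c := by group
      _ = z * z * (c * c) := by rw [h2]; group
      _ = 1 := by rw [h3, hc, mul_one]
  · right
    refine ⟨?_, ?_⟩
    · calc z * (b * c) * (z * (b * c)) = z * b * (c * z) * (b * c) := by group
        _ = z * (b * z) * c * (b * c) := by rw [h2]; group
        _ = z * z * (b * c * (b * c)) := by rw [h1]; group
        _ = a := by rw [h3, one_mul, bcbc D]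
    · rcases h with rfl | rfl
      · left; rw [one_mul]
      · right; rw [cb D]

theorem P_le (D : Dat x a b c) : P a b c ≤ Y x a := by
  unfold P
  rw [Subgroup.closure_le]
  rintro s (rfl | rfl | rfl)
  · exact a_mem D
  · exact b_mem D
  · exact c_mem D

theorem card_P (D : Dat x a b c) : Nat.card ↥(P a b c) = 8 := by
  have h2 : Fact (Nat.Prime 2) := ⟨Nat.prime_two⟩
  have h56 := (card_28_56 D).2
  have hd := card_dvd_of_le (P_le D)
  rw [h56] at hd
  have hP : IsPGroup 2 ↥(P a b c) := by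
    intro ⟨u, hu⟩
    refine ⟨2, Subtype.ext ?_⟩
    change u ^ 2 ^ 2 = 1
    rw [show (2 : ℕ) ^ 2 = 2 * 2 by norm_num, pow_mul, pow_two u]
    rcases sq_cases D (mem_L D hu) with h | ⟨h, -⟩
    · rw [h, one_pow]
    · rw [h, pow_two, aa D]
  obtain ⟨k, hk⟩ := IsPGroup.iff_card.1 hP
  have hb : b ∈ P a b c := subset_closure (by simp)
  have hc : c ∈ P a b c := subset_closure (by simp)
  have hbc : b * c ∈ P a b c := mul_mem hb hc
  have h4 : 4 ∣ Nat.card ↥(P a b c) := by
    rw [← order_bc D]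
    exact Subgroup.orderOf_dvd_natCard _ hbc
  rw [hk] at hd h4 ⊢
  have hk3 : k ≤ 3 := by
    by_contra h
    have h1 : 2 ^ 4 ∣ 56 := (pow_dvd_pow 2 (by omega : 4 ≤ k)).trans hd
    norm_num at h1
  have hk2 : 2 ≤ k := by
    rw [show 4 = 2 ^ 2 by norm_num] at h4
    exact (Nat.pow_dvd_pow_iff_le_right (by norm_num)).1 h4
  have hne : k ≠ 2 := by
    rintro rfl
    have h5 : zpowers (b * c) = P a b c := by
      refine Subgroup.eq_of_le_of_card_ge (zpowers_le.2 hbc) ?_
      rw [hk, Nat.card_zpowers, order_bc D]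
      norm_num
    have h6 : b ∈ zpowers (b * c) := by rw [h5]; exact hb
    obtain ⟨n, hn⟩ := mem_zpowers_iff.1 h6
    have h7 : b * (b * c) = b * c * b := by
      have h8 : Commute ((b * c) ^ n) (b * c) := Commute.zpow_left (Commute.refl (b * c)) n
      rw [hn] at h8
      exact h8
    rw [mul_assoc b c b] at h7
    exact not_comm D (mul_left_cancel h7)
  have : k = 3 := by omega
  rw [this]
  norm_num

/-- the elements of 2-power order of `Y` -/
theorem mem_P (D : Dat x a b c) {u : K} (hu : u ∈ Y x a) {n : ℕ} (hn : u ^ 2 ^ n = 1) : u ∈ P a b c := by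
  have h8 := card_P D
  have h56 := (card_28_56 D).2
  have h7 : Nat.card ↥(zpowers x) = 7 := by rw [Nat.card_zpowers, D.hx]
  have hdis : ∀ z ∈ P a b c, z ∈ zpowers x → z = 1 := by
    intro z hz hzx
    have h1 : orderOf z ∣ 8 := by rw [← h8]; exact Subgroup.orderOf_dvd_natCard _ hz
    have h2 : orderOf z ∣ 7 := by rw [← h7]; exact Subgroup.orderOf_dvd_natCard _ hzx
    have h3 : orderOf z ∣ Nat.gcd 8 7 := Nat.dvd_gcd h1 h2
    rw [show Nat.gcd 8 7 = 1 by norm_num, Nat.dvd_one] at h3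
    exact orderOf_eq_one_iff.1 h3
  let e : ↥(P a b c) × ↥(zpowers x) → ↥(Y x a) := fun p =>
    ⟨p.1.1 * p.2.1, (Y x a).mul_mem (P_le D p.1.2) (zpowers_le.2 (x_mem D) p.2.2)⟩
  have hinj : Function.Injective e := by
    rintro ⟨⟨p, hp⟩, ⟨z, hz⟩⟩ ⟨⟨q, hq⟩, ⟨w, hw⟩⟩ h
    have h1 : p * z = q * w := congrArg Subtype.val h
    have h2 : q⁻¹ * p = w * z⁻¹ := by
      rw [inv_mul_eq_iff_eq_mul, ← mul_assoc, ← h1, mul_inv_cancel_right]
    have h3 : q⁻¹ * p = 1 := hdis _ (mul_mem (inv_mem hq) hp) (by rw [h2]; exact mul_mem hw (inv_mem hz))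
    have h4 : p = q := (inv_mul_eq_one.1 h3).symm
    subst h4
    have h5 : z = w := mul_left_cancel h1
    subst h5
    rfl
  have hsurj : Function.Surjective e := by
    refine (Function.Injective.bijective_of_nat_card_le hinj ?_).2
    rw [h56, Nat.card_prod, h8, h7]
  obtain ⟨⟨⟨p, hp⟩, ⟨z, hz⟩⟩, he⟩ := hsurj ⟨u, hu⟩
  have he' : p * z = u := congrArg Subtype.val he
  have hpz : Commute p z := by
    obtain ⟨k, rfl⟩ := mem_zpowers_iff.1 hz
    exact (Commute.zpow_right (show Commute p x from (mem_Y.1 (P_le D hp)).1) k)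
  rw [← he', hpz.mul_pow] at hn
  have h1 : z ^ 2 ^ n = 1 := by
    refine hdis _ ?_ (pow_mem hz _)
    rw [← inv_eq_of_mul_eq_one_right hn]
    exact inv_mem (pow_mem hp _)
  have h2 : orderOf z ∣ 2 ^ n := orderOf_dvd_of_pow_eq_one h1
  have h3 : orderOf z ∣ 7 := by rw [← h7]; exact Subgroup.orderOf_dvd_natCard _ hz
  have h4 : orderOf z ∣ Nat.gcd (2 ^ n) 7 := Nat.dvd_gcd h2 h3
  have h5 : Nat.gcd (2 ^ n) 7 = 1 := Nat.Coprime.pow_left n (by norm_num)
  rw [h5, Nat.dvd_one, orderOf_eq_one_iff] at h4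
  rw [← he', h4, mul_one]
  exact hp

/-! ### Classes -/

theorem conj_seven (D : Dat x a b c) {g : K} (hg : orderOf g = 7) : IsConj g x := isConj_iff.2 (D.one g hg)

/-- an element with 7-part of order 7: up to conjugacy the 7-part is `x` and the involution is `a` -/
theorem exists_conj (D : Dat x a b c) {s y : K} (hs : orderOf s = 2) (hy : orderOf y = 7) (hsy : s * y = y * s) :
    ∃ k : K, k * s * k⁻¹ = a ∧ k * y * k⁻¹ = x := by
  obtain ⟨g, hg⟩ := D.one y hy
  have h1 : g * s * g⁻¹ * x = x * (g * s * g⁻¹) := by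
    rw [← hg]
    calc g * s * g⁻¹ * (g * y * g⁻¹) = g * (s * y) * g⁻¹ := by group
      _ = g * (y * s) * g⁻¹ := by rw [hsy]
      _ = _ := by group
  have h2 : orderOf (g * s * g⁻¹) = 2 := by
    rw [← hs]
    exact MulEquiv.orderOf_eq (MulAut.conj g) s
  obtain ⟨h, h3, h4⟩ := D.pair _ h2 h1
  refine ⟨h * g, ?_, ?_⟩
  · rw [← h3]; group
  · calc h * g * y * (h * g)⁻¹ = h * (g * y * g⁻¹) * h⁻¹ := by group
      _ = h * x * h⁻¹ := by rw [hg]
      _ = x := by rw [h4, mul_inv_cancel_right]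

theorem conj_fourteen (D : Dat x a b c) {g : K} (hg : orderOf g = 14) : IsConj g (a * x) := by
  have h1 : orderOf (g ^ 7) = 2 := by rw [orderOf_pow, hg]; norm_num
  have h2 : orderOf (g ^ 8) = 7 := by rw [orderOf_pow, hg]; norm_num
  obtain ⟨k, hk1, hk2⟩ := exists_conj D h1 h2 (by rw [← pow_add, ← pow_add])
  refine isConj_iff.2 ⟨k, ?_⟩
  have h3 : g ^ 7 * g ^ 8 = g := by
    rw [← pow_add, show 7 + 8 = 14 + 1 by norm_num, pow_succ, ← hg, pow_orderOf_eq_one, one_mul]
  rw [← hk1, ← hk2]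
  calc k * g * k⁻¹ = k * (g ^ 7 * g ^ 8) * k⁻¹ := by rw [h3]
    _ = _ := by group

theorem order_ax (D : Dat x a b c) : orderOf (a * x) = 14 := by
  have h := (Commute.orderOf_mul_eq_mul_orderOf_of_coprime (show Commute a x from D.ax)
    (by rw [D.ha, D.hx]; norm_num))
  rw [h, D.ha, D.hx]

theorem order_bcx (D : Dat x a b c) : orderOf (b * c * x) = 28 := by
  have h := (Commute.orderOf_mul_eq_mul_orderOf_of_coprime (show Commute (b * c) x from (mem_Y.1 (bc_mem D)).1)
    (by rw [order_bc D, D.hx]; norm_num))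
  rw [h, order_bc D, D.hx]

theorem conj_twenty_eight (D : Dat x a b c) {g : K} (hg : orderOf g = 28) : IsConj g (b * c * x) := by
  have h1 : orderOf (g ^ 14) = 2 := by rw [orderOf_pow, hg]; norm_num
  have h2 : orderOf (g ^ 8) = 7 := by rw [orderOf_pow, hg]; norm_num
  obtain ⟨k, hk1, hk2⟩ := exists_conj D h1 h2 (by rw [← pow_add, ← pow_add])
  have h3 : g ^ 21 * g ^ 8 = g := by
    rw [← pow_add, show 21 + 8 = 28 + 1 by norm_num, pow_succ, ← hg, pow_orderOf_eq_one, one_mul]
  set u := k * g ^ 21 * k⁻¹ with hu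
  have hu2 : u * u = a := by
    have h4 : g ^ 21 * g ^ 21 = g ^ 14 := by
      rw [← pow_add, show 21 + 21 = 28 + 14 by norm_num, pow_add g 28 14, ← hg, pow_orderOf_eq_one, one_mul]
    rw [← hk1, ← h4, hu]
    group
  have hux : u * x = x * u := by
    rw [← hk2, hu]
    have h4 : g ^ 21 * g ^ 8 = g ^ 8 * g ^ 21 := by rw [← pow_add, ← pow_add]
    calc k * g ^ 21 * k⁻¹ * (k * g ^ 8 * k⁻¹) = k * (g ^ 21 * g ^ 8) * k⁻¹ := by group
      _ = k * (g ^ 8 * g ^ 21) * k⁻¹ := by rw [h4]
      _ = _ := by group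
  have hua : u * a = a * u := by
    rw [← hu2]
    exact (mul_assoc u u u).symm
  have hu4 : u ^ 2 ^ 2 = 1 := by
    rw [show (2 : ℕ) ^ 2 = 2 * 2 by norm_num, pow_mul, pow_two u, hu2, pow_two, aa D]
  have hgux : k * g * k⁻¹ = u * x := by
    rw [← hk2, hu]
    calc k * g * k⁻¹ = k * (g ^ 21 * g ^ 8) * k⁻¹ := by rw [h3]
      _ = _ := by group
  rcases sq_cases D (mem_L D (mem_P D (mem_Y.2 ⟨hux, hua⟩) hu4)) with h4 | ⟨-, h4 | h4⟩
  · exact absurd (hu2.symm.trans h4) (a1 D)
  · exact isConj_iff.2 ⟨k, by rw [hgux, h4]⟩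
  · refine (isConj_iff.2 ⟨k, hgux⟩).trans (isConj_iff.2 ⟨b, ?_⟩)
    rw [h4]
    calc b * (c * b * x) * b⁻¹ = b * c * (b * x) * b⁻¹ := by group
      _ = b * c * (x * b) * b⁻¹ := by rw [D.bx]
      _ = _ := by group

/-- no elements of order 56 -/
theorem no_56 (D : Dat x a b c) {g : K} (hg : orderOf g = 56) : False := by
  have h1 : orderOf (g ^ 28) = 2 := by rw [orderOf_pow, hg]; norm_num
  have h2 : orderOf (g ^ 8) = 7 := by rw [orderOf_pow, hg]; norm_num
  obtain ⟨k, hk1, hk2⟩ := exists_conj D h1 h2 (by rw [← pow_add, ← pow_add])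
  set u := k * g ^ 7 * k⁻¹ with hu
  have hu4 : u ^ 4 = a := by
    rw [← hk1, hu, conj_pow, ← pow_mul]
  have hux : u * x = x * u := by
    rw [← hk2, hu]
    have h4 : g ^ 7 * g ^ 8 = g ^ 8 * g ^ 7 := by rw [← pow_add, ← pow_add]
    calc k * g ^ 7 * k⁻¹ * (k * g ^ 8 * k⁻¹) = k * (g ^ 7 * g ^ 8) * k⁻¹ := by group
      _ = k * (g ^ 8 * g ^ 7) * k⁻¹ := by rw [h4]
      _ = _ := by group
  have hua : u * a = a * u := by rw [← hu4]; exact (Commute.self_pow u 4).eq
  have hu8 : u ^ 2 ^ 3 = 1 := by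
    rw [show (2 : ℕ) ^ 3 = 4 * 2 by norm_num, pow_mul, hu4, pow_two, aa D]
  have h5 : u ^ 4 = 1 := by
    rw [show 4 = 2 * 2 by norm_num, pow_mul, pow_two u]
    rcases sq_cases D (mem_L D (mem_P D (mem_Y.2 ⟨hux, hua⟩) hu8)) with h | ⟨h, -⟩
    · rw [h, one_pow]
    · rw [h, pow_two, aa D]
  rw [hu4] at h5
  exact a1 D h5

/-- no elements of order 49 -/
theorem no_49 (D : Dat x a b c) {g : K} (hg : orderOf g = 49) : False := by
  have h1 : orderOf (g ^ 7) = 7 := by rw [orderOf_pow, hg]; norm_num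
  obtain ⟨k, hk⟩ := D.one _ h1
  have h2 : Nat.card ↥(zpowers (k * g * k⁻¹)) = 49 := by
    rw [Nat.card_zpowers, ← hg]
    exact MulEquiv.orderOf_eq (MulAut.conj k) g
  have h3 : (k * g * k⁻¹) ^ 7 = x := by rw [conj_pow, hk]
  have h4 := D.exp (P := zpowers (k * g * k⁻¹)) h2 (by rw [← h3]; exact pow_mem (mem_zpowers _) 7)
    (fun u hu v hv => by
      obtain ⟨m, rfl⟩ := mem_zpowers_iff.1 hu
      obtain ⟨n, rfl⟩ := mem_zpowers_iff.1 hv
      rw [← zpow_add, ← zpow_add, add_comm])
  have h5 := h4 _ (mem_zpowers _)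
  rw [h3] at h5
  have h6 := D.hx
  rw [h5, orderOf_one] at h6
  norm_num at h6

/-- centralizers -/
theorem card_cent_14 (D : Dat x a b c) {g : K} (hg : orderOf g = 14) :
    Nat.card ↥(centralizer ({g} : Set K)) = 56 := by
  rw [card_cent_conj (conj_fourteen D hg), ← (card_28_56 D).2]
  congr 2
  have h1 := order_ax D
  have hc : Commute a x := D.ax
  have h7 : (a * x) ^ 7 = a := by
    rw [hc.mul_pow, ← D.hx, pow_orderOf_eq_one, mul_one, D.hx, show 7 = 2 * 3 + 1 by norm_num, pow_add, pow_mul,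
      pow_two, aa D, one_pow, one_mul, pow_one]
  have h8 : (a * x) ^ 8 = x := by
    rw [hc.mul_pow, show 8 = 7 + 1 by norm_num, pow_add x 7 1, ← D.hx, pow_orderOf_eq_one, one_mul, pow_one, D.hx,
      show 7 + 1 = 2 * 4 by norm_num, pow_mul, pow_two, aa D, one_pow, one_mul]
  ext y
  rw [mem_centralizer_singleton_iff, mem_Y]
  constructor
  · intro h
    have h' : Commute y (a * x) := h
    constructor
    · have := h'.pow_right 8
      rw [h8] at this
      exact this
    · have := h'.pow_right 7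
      rw [h7] at this
      exact this
  · rintro ⟨h1, h2⟩
    exact (Commute.mul_right (show Commute y a from h2) (show Commute y x from h1)).eq

theorem card_cent_28 (D : Dat x a b c) {g : K} (hg : orderOf g = 28) :
    Nat.card ↥(centralizer ({g} : Set K)) = 28 := by
  rw [card_cent_conj (conj_twenty_eight D hg), ← (card_28_56 D).1]
  have hc : Commute (b * c) x := (mem_Y.1 (bc_mem D)).1
  have h4 : (b * c) ^ 4 = 1 := by rw [← order_bc D, pow_orderOf_eq_one]
  have h7 : x ^ 7 = 1 := by rw [← D.hx, pow_orderOf_eq_one]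
  have h8 : (b * c * x) ^ 8 = x := by
    rw [hc.mul_pow, show 8 = 4 * 2 by norm_num, pow_mul, h4, one_pow, one_mul, show 4 * 2 = 7 + 1 by norm_num,
      pow_add, h7, one_mul, pow_one]
  have h21 : (b * c * x) ^ 21 = b * c := by
    rw [hc.mul_pow, show 21 = 7 * 3 by norm_num, pow_mul x, h7, one_pow, mul_one,
      show 7 * 3 = 4 * 5 + 1 by norm_num, pow_add, pow_mul, h4, one_pow, one_mul, pow_one]
  have h14 : (b * c * x) ^ 14 = a := by
    rw [hc.mul_pow, show 14 = 7 * 2 by norm_num, pow_mul x, h7, one_pow, mul_one,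
      show 7 * 2 = 4 * 3 + 2 by norm_num, pow_add, pow_mul, h4, one_pow, one_mul, pow_two, bcbc D]
  congr 2
  ext y
  rw [mem_centralizer_singleton_iff, Subgroup.mem_inf, mem_Y, mem_centralizer_singleton_iff]
  constructor
  · intro h
    have h' : Commute y (b * c * x) := h
    have e8 := h'.pow_right 8
    have e14 := h'.pow_right 14
    have e21 := h'.pow_right 21
    rw [h8] at e8
    rw [h14] at e14
    rw [h21] at e21
    exact ⟨⟨e8, e14⟩, e21⟩
  · rintro ⟨⟨h1, h2⟩, h3⟩
    exact (Commute.mul_right (show Commute y (b * c) from h3) (show Commute y x from h1)).eq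

end

end Cfsg.Agent.H871.Th7
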